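import Groth.Agent.Ega3B.Mumford
import Groth.Agent.Ega3A.TFunFlat
import Groth.Agent.S2373
import Groth.Agent.S2375
import Groth.Agent.S2406
import Mathlib.Algebra.Homology.Embedding.CochainComplex
import Mathlib.RingTheory.Flat.EquationalCriterion

/-!
# Mumford's lemma for cochain complexes of flat modules over a Noetherian ring

`exists_perfect`: a cochain complex `C` of flat modules in degrees `≥ a` with finitely generated
cohomology and with `H^i(C ⊗ M) = 0` for `i > b` and all `M` receives a map from a complex `P` of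
finite projective modules in degrees `[a, b]` which is a quasi-isomorphism after `⊗ M` for all `M`.
-/

set_option autoImplicit false
universe v u

open CategoryTheory CategoryTheory.Limits MonoidalCategory

namespace Groth.Agent.ResProp.EF.K476.Mum

section Neg

variable {C : Type u} [Category.{v} C] [HasZeroMorphisms C]

/-- reindexing of a cochain complex as a chain complex -/
@[simps]
def toChain (K : CochainComplex C ℤ) : ChainComplex C ℤ where
  X i := K.X (-i)
  d i j := K.d (-i) (-j)
  shape i j h := K.shape _ _ (fun h' => h (by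
    have h'' : -i + 1 = -j := h'
    change j + 1 = i
    omega))
  d_comp_d' _ _ _ _ _ := K.d_comp_d _ _ _

/-- reindexing of a chain complex as a cochain complex -/
@[simps]
def toCochain (K : ChainComplex C ℤ) : CochainComplex C ℤ where
  X i := K.X (-i)
  d i j := K.d (-i) (-j)
  shape i j h := K.shape _ _ (fun h' => h (by
    have h'' : -j + 1 = -i := h'
    change i + 1 = j
    omega))
  d_comp_d' _ _ _ _ _ := K.d_comp_d _ _ _

/-- functoriality -/
@[simps]
def toChainMap {K L : CochainComplex C ℤ} (f : K ⟶ L) : toChain K ⟶ toChain L where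
  f i := f.f (-i)
  comm' _ _ _ := f.comm _ _

/-- functoriality -/
@[simps]
def toCochainMap {K L : ChainComplex C ℤ} (f : K ⟶ L) : toCochain K ⟶ toCochain L where
  f i := f.f (-i)
  comm' _ _ _ := f.comm _ _

/-- reindexing twice -/
def negNeg (K : CochainComplex C ℤ) : toCochain (toChain K) ≅ K :=
  HomologicalComplex.Hom.isoOfComponents (fun i => K.XIsoOfEq (neg_neg i)) (fun i j _ =>
    (HomologicalComplex.XIsoOfEq_hom_comp_d K (neg_neg i) j).trans
      (HomologicalComplex.d_comp_XIsoOfEq_hom K (neg_neg j) (-(-i))).symm)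

end Neg

section Homology

variable {C : Type u} [Category.{v} C] [HasZeroMorphisms C] [CategoryWithHomology C]

theorem quasiIsoAt_toChainMap {K L : CochainComplex C ℤ} (f : K ⟶ L) (i j : ℤ) (hij : j = -i) :
    QuasiIsoAt (toChainMap f) i ↔ QuasiIsoAt f j := by
  subst hij
  rw [quasiIsoAt_iff' (toChainMap f) (i + 1) i (i - 1) (by simp) (by simp),
    quasiIsoAt_iff' f (-(i + 1)) (-i) (-(i - 1)) (by simp; omega)
      (by simp; omega)]
  rfl

theorem quasiIsoAt_toCochainMap {K L : ChainComplex C ℤ} (f : K ⟶ L) (i j : ℤ) (hij : j = -i) :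
    QuasiIsoAt (toCochainMap f) i ↔ QuasiIsoAt f j := by
  subst hij
  rw [quasiIsoAt_iff' (toCochainMap f) (i - 1) i (i + 1) (by simp) (by simp),
    quasiIsoAt_iff' f (-(i - 1)) (-i) (-(i + 1)) (by simp; omega)
      (by simp; omega)]
  rfl

/-- homology of `toChain K` -/
noncomputable def homologyToChain (K : CochainComplex C ℤ) (i j : ℤ) (hij : j = -i) :
    (toChain K).homology i ≅ K.homology j := by
  subst hij
  exact ShortComplex.homologyMapIso ((toChain K).isoSc' (i + 1) i (i - 1) (by simp) (by simp)) ≪≫
    (ShortComplex.homologyMapIso (K.isoSc' (-(i + 1)) (-i) (-(i - 1)) (by simp; omega)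
      (by simp; omega))).symm

/-- homology of `toCochain K` -/
noncomputable def homologyToCochain (K : ChainComplex C ℤ) (i j : ℤ) (hij : j = -i) :
    (toCochain K).homology i ≅ K.homology j := by
  subst hij
  exact ShortComplex.homologyMapIso ((toCochain K).isoSc' (i - 1) i (i + 1) (by simp) (by simp)) ≪≫
    (ShortComplex.homologyMapIso (K.isoSc' (-(i - 1)) (-i) (-(i + 1)) (by simp; omega)
      (by simp; omega))).symm

/-- opcycles of `toCochain K` -/
noncomputable def opcyclesToCochain (K : ChainComplex C ℤ) (i j : ℤ) (hij : j = -i) :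
    (toCochain K).opcycles i ≅ K.opcycles j := by
  subst hij
  exact ShortComplex.opcyclesMapIso ((toCochain K).isoSc' (i - 1) i (i + 1) (by simp) (by simp)) ≪≫
    (ShortComplex.opcyclesMapIso (K.isoSc' (-(i - 1)) (-i) (-(i + 1)) (by simp; omega)
      (by simp; omega))).symm

end Homology

section Tensor

variable {A : Type u} [CommRing A]

/-- `K ⊗ M`, degreewise -/
noncomputable abbrev tens {ι : Type} {c : ComplexShape ι} (K : HomologicalComplex (ModuleCat.{u} A) c)
    (M : ModuleCat.{u} A) : HomologicalComplex (ModuleCat.{u} A) c :=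
  ((tensorRight M).mapHomologicalComplex c).obj K

/-- `f ⊗ M`, degreewise -/
noncomputable abbrev tensMap {ι : Type} {c : ComplexShape ι}
    {K L : HomologicalComplex (ModuleCat.{u} A) c} (f : K ⟶ L)
    (M : ModuleCat.{u} A) : tens K M ⟶ tens L M :=
  ((tensorRight M).mapHomologicalComplex c).map f

theorem isZero_tens_homology {ι : Type} {c : ComplexShape ι}
    (K : HomologicalComplex (ModuleCat.{u} A) c) (M : ModuleCat.{u} A) (i : ι)
    (h : IsZero (K.X i)) : IsZero ((tens K M).homology i) := by
  have h1 : IsZero ((tens K M).X i) := Functor.map_isZero (tensorRight M) h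
  exact (ShortComplex.exact_iff_isZero_homology ((tens K M).sc i)).1
    (ShortComplex.exact_of_isZero_X₂ ((tens K M).sc i) h1)

theorem isZero_homology_of_tens {ι : Type} {c : ComplexShape ι}
    (K : HomologicalComplex (ModuleCat.{u} A) c) (i : ι)
    (h : IsZero ((tens K (ModuleCat.of A A)).homology i)) : IsZero (K.homology i) :=
  IsZero.of_iso h (Groth.Agent.Ega3A.TFunFlat.TunitIso K i).symm

/-- A quasi-isomorphism between cochain complexes of flat modules with `H^i(- ⊗ M) = 0` for
`i > b` and all `M` stays a quasi-isomorphism after `⊗ M`. -/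
theorem quasiIso_tensMap {K L : CochainComplex (ModuleCat.{u} A) ℤ} (f : K ⟶ L) [QuasiIso f]
    (hK : ∀ i, Module.Flat A (K.X i)) (hL : ∀ i, Module.Flat A (L.X i)) (b : ℤ)
    (hKb : ∀ (M : ModuleCat.{u} A) (i : ℤ), b < i → IsZero ((tens K M).homology i))
    (hLb : ∀ (M : ModuleCat.{u} A) (i : ℤ), b < i → IsZero ((tens L M).homology i))
    (M : ModuleCat.{u} A) : QuasiIso (tensMap f M) := by
  have hf : QuasiIso (toChainMap f) := ⟨fun i => (quasiIsoAt_toChainMap f i _ rfl).2 inferInstance⟩
  refine ⟨fun i => ?_⟩
  have h1 := Groth.Agent.Ega3B.Mumford.isIso_homologyMap_tensor (toChainMap f)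
    (fun i => hL (-i)) (fun i => hK (-i)) (-b)
    (fun M i hi => (hLb M (-i) (by omega)).of_iso (homologyToChain (tens L M) i _ rfl))
    (fun M i hi => (hKb M (-i) (by omega)).of_iso (homologyToChain (tens K M) i _ rfl)) M (-i)
  have h2 : QuasiIsoAt (toChainMap (tensMap f M)) (-i) :=
    (quasiIsoAt_iff_isIso_homologyMap _ _).2 h1
  exact (quasiIsoAt_toChainMap (tensMap f M) (-i) i (by omega)).1 h2

/-- **Mumford's lemma**. -/
theorem exists_perfect [IsNoetherianRing A] (C : CochainComplex (ModuleCat.{u} A) ℤ)
    (hflat : ∀ i, Module.Flat A (C.X i)) (a b : ℤ) (ha : ∀ i, i < a → IsZero (C.X i))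
    (hfin : ∀ i, Module.Finite A (C.homology i))
    (hvan : ∀ (M : ModuleCat.{u} A) (i : ℤ), b < i → IsZero ((tens C M).homology i)) :
    ∃ (P : CochainComplex (ModuleCat.{u} A) ℤ) (f : P ⟶ C),
      (∀ i, Module.Finite A (P.X i)) ∧ (∀ i, Module.Projective A (P.X i)) ∧
      (∀ i, i < a → IsZero (P.X i)) ∧ (∀ i, b < i → IsZero (P.X i)) ∧
      (∀ M : ModuleCat.{u} A, QuasiIso (tensMap f M)) ∧ QuasiIso f := by
  obtain ⟨Q, w, hQ, hQd, hw⟩ := Groth.Agent.S2373.result (toChain C)
    (fun i => by
      have := hfin (-i)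
      exact Module.Finite.equiv (homologyToChain C i _ rfl).toLinearEquiv.symm) (-b)
    (fun i hi => (isZero_homology_of_tens C (-i) (hvan _ _ (by omega))).of_iso
      (homologyToChain C i _ rfl))
  have hQflat : ∀ i, Module.Flat A (Q.X i) := fun i => by
    have := (hQ i).2
    infer_instance
  -- the homology of `Q ⊗ M`
  have hQM : ∀ (M : ModuleCat.{u} A) (i : ℤ), -a < i → IsZero ((tens Q M).homology i) := by
    intro M i hi
    have h1 := Groth.Agent.Ega3B.Mumford.isIso_homologyMap_tensor w
      (fun i => hflat (-i)) hQflat (-b)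
      (fun M i hi => (hvan M (-i) (by omega)).of_iso (homologyToChain (tens C M) i _ rfl))
      (fun M i hi => isZero_tens_homology Q M i (hQd i hi)) M i
    exact (isZero_tens_homology (toChain C) M i (ha (-i) (by omega))).of_iso
      (@asIso _ _ _ _ _ h1)
  have hop : Module.Flat A (Q.opcycles (-a)) := by
    rw [← Groth.Agent.S2375.result Q hQflat (-a),
      ← Groth.Agent.S2406.result Q hQflat (-a + 1) (-a) rfl]
    constructor
    intro M N f _
    exact ⟨fun _ _ _ => (hQM N (-a + 1) (by omega)).eq_of_src _ _⟩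
  have hopfin : Module.Finite A (Q.opcycles (-a)) := by
    have := (hQ (-a)).1
    exact Module.Finite.of_surjective (Q.pOpcycles (-a)).hom
      ((ModuleCat.epi_iff_surjective _).1 inferInstance)
  let Qc := toCochain Q
  let g : Qc ⟶ C := toCochainMap w ≫ (negNeg C).hom
  have hg : QuasiIso g := by
    have : QuasiIso (toCochainMap w) :=
      ⟨fun i => (quasiIsoAt_toCochainMap w i _ rfl).2 inferInstance⟩
    infer_instance
  have hC : C.IsStrictlyGE a := by
    rw [CochainComplex.isStrictlyGE_iff]
    exact ha
  have hQcGE : Qc.IsGE a := by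
    rw [CochainComplex.isGE_iff]
    intro i hi
    rw [HomologicalComplex.exactAt_iff_isZero_homology]
    have := @asIso _ _ _ _ (HomologicalComplex.homologyMap g i) inferInstance
    exact (IsZero.of_iso (by
      exact (ShortComplex.exact_iff_isZero_homology (C.sc i)).1
        (ShortComplex.exact_of_isZero_X₂ (C.sc i) (ha i hi))) this)
  let P := Qc.truncGE a
  let f : P ⟶ C := CochainComplex.truncGEMap g a ≫ inv (C.πTruncGE a)
  have hπf : Qc.πTruncGE a ≫ f = g := by
    dsimp only [f]
    rw [← Category.assoc, CochainComplex.πTruncGE_naturality, Category.assoc, IsIso.hom_inv_id,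
      Category.comp_id]
  have hf : QuasiIso f := by
    have : QuasiIso (Qc.πTruncGE a ≫ f) := by
      rw [hπf]
      exact hg
    exact quasiIso_of_comp_left (Qc.πTruncGE a) f
  have hX : ∀ i, a < i → Nonempty (P.X i ≅ Q.X (-i)) := fun i hi =>
    ⟨CochainComplex.truncGEXIso Qc a i hi⟩
  have hXa : Nonempty (P.X a ≅ Q.opcycles (-a)) :=
    ⟨CochainComplex.truncGEXIsoOpcycles Qc a ≪≫ opcyclesToCochain Q a _ rfl⟩
  have hlow : ∀ i, i < a → IsZero (P.X i) := fun i hi =>
    CochainComplex.isZero_of_isStrictlyGE P a i hi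
  have hhigh : ∀ i, b < i → IsZero (P.X i) := by
    intro i hi
    rcases lt_trichotomy i a with h | h | h
    · exact hlow i h
    · subst h
      obtain ⟨e⟩ := hXa
      refine IsZero.of_iso ?_ e
      have h0 : IsZero (Q.X (-i)) := hQd _ (by omega)
      rw [IsZero.iff_id_eq_zero, ← cancel_epi (Q.pOpcycles (-i))]
      exact h0.eq_of_src _ _
    · obtain ⟨e⟩ := hX i h
      exact IsZero.of_iso (hQd _ (by omega)) e
  have hP : ∀ i, Module.Finite A (P.X i) ∧ Module.Projective A (P.X i) := by
    intro i
    rcases lt_trichotomy i a with h | h | h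
    · have : Subsingleton (P.X i) := ModuleCat.subsingleton_of_isZero (hlow i h)
      exact ⟨inferInstance, inferInstance⟩
    · subst h
      obtain ⟨e⟩ := hXa
      have : Module.FinitePresentation A (Q.opcycles (-i)) :=
        Module.finitePresentation_of_finite A _
      have : Module.Projective A (Q.opcycles (-i)) :=
        Module.Flat.projective_of_finitePresentation
      exact ⟨Module.Finite.equiv e.toLinearEquiv.symm,
        Module.Projective.of_equiv e.toLinearEquiv.symm⟩
    · obtain ⟨e⟩ := hX i h
      obtain ⟨h1, h2⟩ := hQ (-i)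
      exact ⟨Module.Finite.equiv e.toLinearEquiv.symm,
        Module.Projective.of_equiv e.toLinearEquiv.symm⟩
  have hPflat : ∀ i, Module.Flat A (P.X i) := fun i => by
    have := (hP i).2
    infer_instance
  exact ⟨P, f, fun i => (hP i).1, fun i => (hP i).2, hlow, hhigh,
    fun M => quasiIso_tensMap f hPflat hflat b
      (fun M i hi => isZero_tens_homology P M i (hhigh i hi)) hvan M, hf⟩

end Tensor

end Groth.Agent.ResProp.EF.K476.Mum
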