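import Groth.Agent.ResProp.EF.K476.Mum
import Groth.Agent.ResProp.EF.K294.Defs
import Groth.Agent.ResProp.EF.K744.RepDef
import Groth.Agent.Dcoh.KFlatSES

/-!
# From modules to bounded complexes

`exactAt_of_forall`: if `H^(i-n)(L ⊗ M) = 0` for all `M` and all `n ∈ [a, b]` then `H^i(L ⊗ N) = 0` for all complexes
`N` in degrees `[a, b]`.
`quasiIso_app`: if `f ⊗ M` is a quasi-isomorphism for all `M`, then so is `f ⊗ N` for all bounded complexes `N`.
-/

set_option autoImplicit false
universe v u v₁ v₂ v₃ u₁ u₂ u₃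

open CategoryTheory CategoryTheory.Limits MonoidalCategory HomologicalComplex

namespace Groth.Agent.ResProp.EF.K476.MumBdd

open Groth.Agent.Dcoh.CxFun Groth.Agent.Dcoh.KFlatAbs Groth.Agent.Dcoh.KFlatSingle Groth.Agent.Dcoh.Sigma

lemma exactAt_shift_iff {D : Type u} [Category.{v} D] [Abelian D] (K : CochainComplex D ℤ) (n i j : ℤ)
    (h : n + i = j) : (K⟦n⟧).ExactAt i ↔ K.ExactAt j := by
  rw [exactAt_iff_isZero_homology, exactAt_iff_isZero_homology]
  exact (((homologyFunctor D (ComplexShape.up ℤ) 0).shiftIso n i j h).app K).isZero_iff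

section

variable {C₁ : Type u₁} {C₂ : Type u₂} {D : Type u₃} [Category.{v₁} C₁] [Category.{v₂} C₂] [Category.{v₃} D]
  [Abelian C₁] [Abelian C₂] [Abelian D]
  (T : C₁ ⥤ C₂ ⥤ D) [T.Additive] [∀ X₁, (T.obj X₁).Additive]
  [∀ (K₁ : CochainComplex C₁ ℤ) (K₂ : CochainComplex C₂ ℤ), CochainComplex.HasMapBifunctor K₁ K₂ T]

lemma exactAt_single (L : CochainComplex C₁ ℤ) (M : C₂) (n i : ℤ)
    (h : (((T.flip.obj M).mapHomologicalComplex (ComplexShape.up ℤ)).obj L).ExactAt (i - n)) :
    ((T.map₂CochainComplex.obj L).obj ((single C₂ (ComplexShape.up ℤ) n).obj M)).ExactAt i := by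
  have h0 : ((T.map₂CochainComplex.obj L).obj ((single C₂ (ComplexShape.up ℤ) 0).obj M)).ExactAt (i - n) :=
    h.of_iso (singleIso T L M)
  have h1 : (((T.map₂CochainComplex.obj L).obj
      ((single C₂ (ComplexShape.up ℤ) 0).obj M))⟦-n⟧).ExactAt i :=
    (exactAt_shift_iff _ (-n) i (i - n) (by omega)).2 h0
  have h2 : ((T.map₂CochainComplex.obj L).obj
      (((single C₂ (ComplexShape.up ℤ) 0).obj M)⟦-n⟧)).ExactAt i :=
    h1.of_iso (((T.map₂CochainComplex.obj L).commShiftIso (-n)).app _).symm
  exact h2.of_iso ((T.map₂CochainComplex.obj L).mapIso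
    (((CochainComplex.singleFunctors C₂).shiftIso (-n) n 0 (by lia)).app M))

/-- **exactness for bounded complexes from exactness for objects** -/
theorem exactAt_of_forall (L : CochainComplex C₁ ℤ) (N : CochainComplex C₂ ℤ) (a b : ℤ)
    [N.IsStrictlyGE a] [N.IsStrictlyLE b] (i : ℤ)
    (h : ∀ n : ℤ, a ≤ n → n ≤ b →
      (((T.flip.obj (N.X n)).mapHomologicalComplex (ComplexShape.up ℤ)).obj L).ExactAt (i - n)) :
    ((T.map₂CochainComplex.obj L).obj N).ExactAt i := by
  have key : ∀ m : ℕ, ((T.map₂CochainComplex.obj L).obj (sig N (b + 1 - m))).ExactAt i := by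
    intro m
    induction m with
    | zero =>
      have h0 : IsZero ((T.map₂CochainComplex.obj L).obj (sig N (b + 1 - (0 : ℕ)))) :=
        Functor.map_isZero _ (isZero_sig_of_isStrictlyLE N (b := b) (by simp))
      rw [HomologicalComplex.exactAt_iff_isZero_homology]
      exact (HomologicalComplex.homologyFunctor D (ComplexShape.up ℤ) i).map_isZero h0
    | succ m hm =>
      have h1 : ((T.map₂CochainComplex.obj L).obj (sig N (b - m + 1))).ExactAt i := by
        rwa [show b - m + 1 = b + 1 - m by lia]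
      have h2 : ((T.map₂CochainComplex.obj L).obj
          ((single C₂ (ComplexShape.up ℤ) (b - m)).obj (N.X (b - m)))).ExactAt i := by
        by_cases ha : a ≤ b - m
        · exact exactAt_single T L _ _ _ (h _ ha (by lia))
        · have h0 : IsZero ((T.map₂CochainComplex.obj L).obj
              ((single C₂ (ComplexShape.up ℤ) (b - m)).obj (N.X (b - m)))) :=
            Functor.map_isZero _ (Functor.map_isZero _ (N.isZero_of_isStrictlyGE a _ (by lia)))
          rw [HomologicalComplex.exactAt_iff_isZero_homology]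
          exact (HomologicalComplex.homologyFunctor D (ComplexShape.up ℤ) i).map_isZero h0
      have hS : ((sigShort N (b - m)).map (T.map₂CochainComplex.obj L)).ShortExact :=
        HomologicalComplex.shortExact_of_degreewise_shortExact _ (fun n =>
          (splitting₂ T (sigShort N (b - m)) (sigSplitting N (b - m)) L n).shortExact)
      rw [show b + 1 - ((m + 1 : ℕ) : ℤ) = b - m by lia]
      exact hS.exactAt_X₂ i h1 h2
  have h3 := key (b + 1 - a).toNat
  have hle : b + 1 - ((b + 1 - a).toNat : ℤ) ≤ a := by lia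
  have : IsIso (sigι N (b + 1 - ((b + 1 - a).toNat : ℤ))) := by
    have : ∀ j, IsIso ((sigι N (b + 1 - ((b + 1 - a).toNat : ℤ))).f j) := by
      intro j
      by_cases hj : b + 1 - ((b + 1 - a).toNat : ℤ) ≤ j
      · exact isIso_sigι_f N hj
      · exact ⟨0, (isZero_sig_X N hj).eq_of_src _ _,
          (N.isZero_of_isStrictlyGE a j (by lia)).eq_of_src _ _⟩
    exact HomologicalComplex.Hom.isIso_of_components _
  exact h3.of_iso ((T.map₂CochainComplex.obj L).mapIso (asIso (sigι N (b + 1 - ((b + 1 - a).toNat : ℤ)))))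

/-- The cone of `f` is acyclic after a functor iff the image of `f` is a quasi-isomorphism. -/
lemma acyclic_mappingCone_iff {C : Type u₁} {D : Type u₂} [Category.{v₁} C] [Category.{v₂} D] [Abelian C]
    [Abelian D] (G : CochainComplex C ℤ ⥤ CochainComplex D ℤ) [HtpyFunctor G] [G.CommShift ℤ]
    [G.PreservesZeroMorphisms] [SplitTriFunctor G] {K L : CochainComplex C ℤ} (f : K ⟶ L) :
    (G.obj (CochainComplex.mappingCone f)).Acyclic ↔ QuasiIso (G.map f) := by
  rw [← acyclicMap_trW_iff, ← acyclicMap_iff]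
  exact ((acyclicMap G).trW_iff_of_distinguished _
    (HomotopyCategory.mappingCone_triangleh_distinguished f)).symm

/-- **quasi-isomorphism for bounded complexes from quasi-isomorphism for objects** -/
theorem quasiIso_app_of_forall {K L : CochainComplex C₁ ℤ} (f : K ⟶ L)
    (hf : ∀ M : C₂, QuasiIso (((T.flip.obj M).mapHomologicalComplex (ComplexShape.up ℤ)).map f))
    (N : CochainComplex C₂ ℤ) (a b : ℤ) [N.IsStrictlyGE a] [N.IsStrictlyLE b] :
    QuasiIso ((T.map₂CochainComplex.map f).app N) := by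
  have h1 : ∀ M : C₂, (((T.flip.obj M).mapHomologicalComplex (ComplexShape.up ℤ)).obj
      (CochainComplex.mappingCone f)).Acyclic := by
    intro M
    have h2 : QuasiIso ((T.map₂CochainComplex.flip.obj
        ((single C₂ (ComplexShape.up ℤ) 0).obj M)).map f) := by
      have := hf M
      have e := (Groth.Agent.Dcoh.TensSingle.singleRightIso T M).hom.naturality f
      have h3 : (T.map₂CochainComplex.flip.obj
          ((single C₂ (ComplexShape.up ℤ) 0).obj M)).map f =
          (Groth.Agent.Dcoh.TensSingle.singleRightIso T M).inv.app K ≫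
            ((T.flip.obj M).mapHomologicalComplex (ComplexShape.up ℤ)).map f ≫
            (Groth.Agent.Dcoh.TensSingle.singleRightIso T M).hom.app L := by
        rw [e, Iso.inv_hom_id_app_assoc]
      rw [h3]
      infer_instance
    have h4 := (acyclic_mappingCone_iff _ f).2 h2
    exact acyclic_of_iso (Groth.Agent.Dcoh.TensSingle.singleRightIsoApp T M _).symm h4
  exact (acyclic_mappingCone_iff (T.map₂CochainComplex.flip.obj N) f).1
    (fun i => exactAt_of_forall T (CochainComplex.mappingCone f) N a b i (fun n _ _ => h1 _ _))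

end

section Module

open Groth.Agent.PerfB.RingKFlat
open Groth.Agent.ResProp.EF.K294 (CM)

variable {A : Type u} [CommRing A]

lemma bdd_iff {C : Type*} [Category* C] [HasZeroMorphisms C] (K : CochainComplex C ℤ) :
    K744.Bdd K ↔ ∃ a b : ℤ, K.IsStrictlyGE a ∧ K.IsStrictlyLE b := by
  refine exists₂_congr fun a b => ?_
  rw [CochainComplex.isStrictlyGE_iff, CochainComplex.isStrictlyLE_iff]
  exact ⟨fun h => ⟨fun i hi => h i (Or.inl hi), fun i hi => h i (Or.inr hi)⟩,
    fun h i hi => hi.elim (fun h' => h.1 i h') (h.2 i)⟩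

/-- **the bridge**: `f ⊗ M` quasi-isomorphism for all modules `M` implies `f ⊗ N` quasi-isomorphism for all bounded
complexes `N`. -/
theorem quasiIso_app {K L : CM A} (f : K ⟶ L) (hf : ∀ M : ModuleCat.{u} A, QuasiIso (Mum.tensMap f M))
    (N : CM A) (hN : K744.Bdd N) : QuasiIso (((TR A).map₂CochainComplex.map f).app N) := by
  obtain ⟨a, b, h1, h2⟩ := (bdd_iff N).1 hN
  exact quasiIso_app_of_forall (TR A) f hf N a b

/-- exactness of `K ⊗ N` from exactness of `K ⊗ M`. -/
theorem exactAt_tens (K N : CM A) (a b : ℤ) [N.IsStrictlyGE a] [N.IsStrictlyLE b] (i : ℤ)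
    (h : ∀ n : ℤ, a ≤ n → n ≤ b → IsZero ((Mum.tens K (N.X n)).homology (i - n))) :
    (K294.tens K N).ExactAt i :=
  exactAt_of_forall (TR A) K N a b i
    (fun n h1 h2 => (HomologicalComplex.exactAt_iff_isZero_homology _ _).2 (h n h1 h2))

/-- upper bound -/
theorem exactAt_tens_of_lt (K N : CM A) (c a b : ℤ) [N.IsStrictlyGE a] [N.IsStrictlyLE b]
    (h : ∀ (M : ModuleCat.{u} A) (i : ℤ), c < i → IsZero ((Mum.tens K M).homology i)) (i : ℤ) (hi : c + b < i) :
    (K294.tens K N).ExactAt i :=
  exactAt_tens K N a b i (fun n _ h2 => h _ _ (by omega))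

/-- lower bound -/
theorem exactAt_tens_of_gt (K N : CM A) (c a b : ℤ) [N.IsStrictlyGE a] [N.IsStrictlyLE b]
    (h : ∀ (M : ModuleCat.{u} A) (i : ℤ), i < c → IsZero ((Mum.tens K M).homology i)) (i : ℤ) (hi : i < c + a) :
    (K294.tens K N).ExactAt i :=
  exactAt_tens K N a b i (fun n h1 _ => h _ _ (by omega))

end Module

end Groth.Agent.ResProp.EF.K476.MumBdd
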