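import Groth.Agent.ResProp.EF.K554.Pkg
import Groth.Agent.ResProp.EF.K874.RG
import Mathlib.CategoryTheory.Adjunction.Unique

/-!
# The cobar functor on `Comod A` (instance for `K874.RG`)

`cob : Comod A ⥤ (SimplexCategory ⥤ Ab)`, `W ↦ (W⟨n⟩)_n`, exact; `aug : ModuleCat A⟨0⟩ ⥤ (Dp ⥤ Ab)`,
`N ↦ (N, A(n+1) ⊗ N)`, with `aug ⋙ rF ≅ pst ⋙ cob`, `aug ⋙ eF ≅ forget` and an extra codegeneracy.
-/

set_option autoImplicit false
set_option backward.isDefEq.respectTransparency false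
set_option backward.isDefEq.respectTransparency.types false
set_option linter.style.haveILetI false
set_option linter.dupNamespace false
set_option linter.unusedSectionVars false

open CategoryTheory CategoryTheory.Limits Opposite

namespace Groth.Agent.ResProp.EF.K476.CobInst

open K784.BC K784.PM K741.RP EF56 K276 K554 K781.Desc

universe u

/-- the arrow `⟨n⟩ ⟶ ⟨m⟩` of a map `[m] ⟶ [n]` -/
def arr {x y : SimplexCategory} (φ : x ⟶ y) : (⟨y.len⟩ : NF) ⟶ ⟨x.len⟩ :=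
  (fun i => φ.toOrderHom i : Fin (x.len + 1) → Fin (y.len + 1))

/-- `[n] ↦ ⟨n⟩` -/
def S : SimplexCategory ⥤ NFᵒᵖ where
  obj x := op ⟨x.len⟩
  map φ := (arr φ).op
  map_id _ := rfl
  map_comp _ _ := rfl

section Cob

variable (A : NFᵒᵖ ⥤ CommRingCat.{u})

/-- the cobar functor `W ↦ (W⟨n⟩)_n` -/
noncomputable def cob : Comod A ⥤ (SimplexCategory ⥤ AddCommGrpCat.{u}) :=
  (isCart A).ι ⋙ PresheafOfModules.toPresheaf (rf A) ⋙ (Functor.whiskeringLeft _ _ _).obj S

instance cob_additive [Fact (GR A)] : (cob A).Additive := by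
  unfold cob
  infer_instance

instance cob_lex [Fact (GR A)] : PreservesFiniteLimits (cob A) := by
  unfold cob
  infer_instance

instance cob_rex [Fact (GR A)] : PreservesFiniteColimits (cob A) := by
  unfold cob
  infer_instance

instance cob_colim [Fact (GR A)] : PreservesColimitsOfSize.{u, u} (cob A) := by
  unfold cob
  infer_instance

end Cob

section Aug

variable {A : NFᵒᵖ ⥤ CommRingCat.{u}} (h : GR A)

variable (A) in
/-- the underlying group -/
noncomputable abbrev FG : ModuleCat.{u} (A.obj (op ⟨0⟩)) ⥤ AddCommGrpCat.{u} := forget₂ _ _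

/-- `N ⟶ A(n+1) ⊗ N` -/
noncomputable def jm (N : ModuleCat.{u} (A.obj (op ⟨0⟩))) (x : SimplexCategory) :
    (FG A).obj N ⟶ ((cob A).obj ((pst h).obj N)).obj x :=
  AddCommGrpCat.ofHom (jn A N (lst ⟨x.len⟩))

lemma jm_map (N : ModuleCat.{u} (A.obj (op ⟨0⟩))) {x y : SimplexCategory} (φ : x ⟶ y) :
    jm h N x ≫ ((cob A).obj ((pst h).obj N)).map φ = jm h N y := by
  ext m
  exact tr_jn A N (h.pd.wm (arr φ)) (h.pd.wm_b (arr φ)) m

lemma jm_nat {N N' : ModuleCat.{u} (A.obj (op ⟨0⟩))} (f : N ⟶ N') (x : SimplexCategory) :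
    (FG A).map f ≫ jm h N' x = jm h N x ≫ ((cob A).map ((pst h).map f)).app x := rfl

/-- the coaugmented cobar functor `N ↦ (N, A(n+1) ⊗ N)` -/
noncomputable def XX : ModuleCat.{u} (A.obj (op ⟨0⟩)) ⥤ (Dp ⥤ AddCommGrpCat.{u}) where
  obj N := WithInitial.lift ((cob A).obj ((pst h).obj N)) (jm h N) (fun _ _ φ => jm_map h N φ)
  map {N N'} f :=
    { app := fun X => match X with
        | .of x => ((cob A).map ((pst h).map f)).app x
        | .star => (FG A).map f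
      naturality := by
        rintro (x | _) (y | _) g
        · exact ((cob A).map ((pst h).map f)).naturality (WithInitial.down g)
        · exact (WithInitial.false_of_to_star g).elim
        · exact jm_nat h f y
        · rfl }
  map_id N := by
    ext (x | _) : 2
    · change ((cob A).map ((pst h).map (𝟙 N))).app x = 𝟙 _
      rw [CategoryTheory.Functor.map_id, CategoryTheory.Functor.map_id]
      rfl
    · rfl
  map_comp {N N' N''} f g := by
    ext (x | _) : 2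
    · change ((cob A).map ((pst h).map (f ≫ g))).app x = _
      rw [CategoryTheory.Functor.map_comp, CategoryTheory.Functor.map_comp]
      rfl
    · rfl

instance XX_additive [Fact (GR A)] : (XX h).Additive where
  map_add {N N' f g} := by
    have := pst_additive h
    ext (x | _) : 2
    · change ((cob A).map ((pst h).map (f + g))).app x = _
      rw [Functor.map_add, Functor.map_add]
      rfl
    · rfl

/-- `X ⋙ rF ≅ pst ⋙ cob` -/
noncomputable def eIso : XX h ⋙ rF AddCommGrpCat.{u} ≅ pst h ⋙ cob A :=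
  NatIso.ofComponents (fun _ => NatIso.ofComponents (fun _ => Iso.refl _) (fun _ => rfl)) (fun _ => rfl)

/-- `forget ≅ X ⋙ eF` -/
noncomputable def e0Iso : FG A ≅ XX h ⋙ eF AddCommGrpCat.{u} :=
  NatIso.ofComponents (fun _ => Iso.refl _) (fun _ => rfl)

/-- the arrow of the extra codegeneracy -/
def sx (n : ℕ) : (⟨n + 1⟩ : NF) ⟶ ⟨n + 2⟩ :=
  (Fin.cases (Fin.last (n + 1)) (fun i => i) : Fin (n + 3) → Fin (n + 2))

lemma sx_lst (n : ℕ) : sx n ≫ lst ⟨n + 1⟩ = lst ⟨n⟩ := by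
  funext i
  change (Fin.cases (Fin.last (n + 1)) (fun i => i) : Fin (n + 3) → Fin (n + 2)) (Fin.last (n + 2)) = _
  rw [← Fin.succ_last]
  rfl

lemma wm_eq (h : GR A) {a b : NF} (φ : a ⟶ b) : h.pd.wm φ = wmap φ :=
  nf_ext ((h.pd.wm_π φ).trans (wmap_pr φ).symm) ((h.pd.wm_b φ).trans (wmap_lst φ).symm)

/-- the arrow of a coface -/
def dl (n : ℕ) (i : Fin (n + 2)) : (⟨n + 1⟩ : NF) ⟶ ⟨n⟩ := (i.succAbove : Fin (n + 1) → Fin (n + 2))

lemma arr_δ (n : ℕ) (i : Fin (n + 2)) : arr (SimplexCategory.δ i) = dl n i := rfl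

lemma wmap_castSucc {a b : NF} (φ : a ⟶ b) (j : Fin (b.n + 1)) :
    (wmap φ : Fin (b.n + 2) → Fin (a.n + 2)) j.castSucc =
      ((show Fin (b.n + 1) → Fin (a.n + 1) from φ) j).castSucc :=
  Fin.lastCases_castSucc (motive := fun _ => Fin (a.n + 2)) _

lemma wmap_last {a b : NF} (φ : a ⟶ b) :
    (wmap φ : Fin (b.n + 2) → Fin (a.n + 2)) (Fin.last (b.n + 1)) = Fin.last (a.n + 1) :=
  Fin.lastCases_last (motive := fun _ => Fin (a.n + 2))

lemma sx_succ (n : ℕ) (j : Fin (n + 2)) : (sx n : Fin (n + 3) → Fin (n + 2)) j.succ = j := rfl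

lemma sx_zero (n : ℕ) : sx n ≫ wmap (dl n 0) = 𝟙 (⟨n + 1⟩ : NF) := by
  funext i
  change (sx n : Fin (n + 3) → Fin (n + 2)) ((wmap (dl n 0) : Fin (n + 2) → Fin (n + 3)) i) = i
  refine Fin.lastCases ?_ (fun j => ?_) i
  · rw [show (wmap (dl n 0) : Fin (n + 2) → Fin (n + 3)) (Fin.last (n + 1)) = Fin.last (n + 2) from wmap_last _]
    exact congrFun (sx_lst n) 0
  · rw [show (wmap (dl n 0) : Fin (n + 2) → Fin (n + 3)) j.castSucc = ((0 : Fin (n + 2)).succAbove j).castSucc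
      from wmap_castSucc _ _, Fin.zero_succAbove]
    rfl

lemma sx_wmap (n : ℕ) (i : Fin (n + 2)) :
    wmap (dl n i) ≫ sx n = sx (n + 1) ≫ wmap (dl (n + 1) i.succ) := by
  funext k
  change (wmap (dl n i) : Fin (n + 2) → Fin (n + 3)) ((sx n : Fin (n + 3) → Fin (n + 2)) k) =
    (sx (n + 1) : Fin (n + 4) → Fin (n + 3)) ((wmap (dl (n + 1) i.succ) : Fin (n + 3) → Fin (n + 4)) k)
  refine Fin.lastCases ?_ (fun j => ?_) k
  · rw [show (wmap (dl (n + 1) i.succ) : Fin (n + 3) → Fin (n + 4)) (Fin.last (n + 2)) =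
      Fin.last (n + 3) from wmap_last _]
    have h1 : (sx n : Fin (n + 3) → Fin (n + 2)) (Fin.last (n + 2)) = Fin.last (n + 1) := congrFun (sx_lst n) 0
    have h2 : (sx (n + 1) : Fin (n + 4) → Fin (n + 3)) (Fin.last (n + 3)) = Fin.last (n + 2) :=
      congrFun (sx_lst (n + 1)) 0
    rw [h2]
    exact (congrArg (wmap (dl n i) : Fin (n + 2) → Fin (n + 3)) h1).trans (wmap_last (dl n i))
  · rw [show (wmap (dl (n + 1) i.succ) : Fin (n + 3) → Fin (n + 4)) j.castSucc =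
      (i.succ.succAbove j).castSucc from wmap_castSucc _ _]
    refine Fin.cases ?_ (fun j' => ?_) j
    · rw [Fin.succ_succAbove_zero]
      exact (wmap_last (dl n i))
    · rw [Fin.succ_succAbove_succ]
      exact (wmap_castSucc (dl n i) j')

lemma sx_wmap_one : sx 0 ≫ wmap (dl 0 1) = lst ⟨0⟩ ≫ dg h.pd := by
  funext k
  refine Fin.lastCases ?_ (fun j => ?_) k
  · rfl
  · have : j = 0 := Subsingleton.elim (α := Fin 1) _ _
    subst this
    rfl

section

variable (N : ModuleCat.{u} (A.obj (op ⟨0⟩)))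

lemma tr_congr {y y' : NF} {l : y ⟶ ⟨0⟩} {l' : y' ⟶ ⟨0⟩} {ψ ψ' : y' ⟶ y} (e : ψ = ψ') (h : ψ ≫ l = l')
    (h' : ψ' ≫ l = l') : tr A N ψ h = tr A N ψ' h' := by
  subst e
  rfl

lemma rel_zero (n : ℕ) (v : V A N (lst ⟨n⟩)) :
    tr A N (sx n) (sx_lst n) (tr A N (wmap (dl n 0)) (wmap_lst _) v) = v :=
  (tr_comp A N (sx n) (wmap (dl n 0)) (sx_lst n) (wmap_lst _) (𝟙 _) (sx_zero n) (Category.id_comp _) v).symm.trans
    (tr_id A N _ _ rfl v)

lemma rel_succ (n : ℕ) (i : Fin (n + 2)) (v : V A N (lst ⟨n + 1⟩)) :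
    tr A N (sx (n + 1)) (sx_lst (n + 1)) (tr A N (wmap (dl (n + 1) i.succ)) (wmap_lst _) v) =
    tr A N (wmap (dl n i)) (wmap_lst _) (tr A N (sx n) (sx_lst n) v) := by
  have h3 : (sx (n + 1) ≫ wmap (dl (n + 1) i.succ)) ≫ lst ⟨n + 1⟩ = lst ⟨n + 1⟩ :=
    (congrArg (sx (n + 1) ≫ ·) (wmap_lst (dl (n + 1) i.succ))).trans (sx_lst (n + 1))
  refine (tr_comp A N (sx (n + 1)) (wmap (dl (n + 1) i.succ)) (sx_lst (n + 1)) (wmap_lst _) _ rfl h3 v).symm.trans ?_
  exact tr_comp A N (wmap (dl n i)) (sx n) (wmap_lst _) (sx_lst n) _ (sx_wmap n i) _ v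

include h in
lemma rel_one (v : V A N (lst ⟨0⟩)) :
    tr A N (sx 0) (sx_lst 0) (tr A N (wmap (dl 0 1)) (wmap_lst _) v) = jn A N (lst ⟨0⟩) (ep h.pd N v) := by
  have e : (tr A N (sx 0) (sx_lst 0)).comp (tr A N (wmap (dl 0 1)) (wmap_lst _)) =
      (jn A N (lst ⟨0⟩)).comp (ep h.pd N) := by
    refine semi_ext (isBC_jn A N (lst ⟨0⟩)) (rg A (lst ⟨0⟩ ≫ dg h.pd)) _ _ (fun b n => ?_) (fun b n => ?_)
      (fun m => ?_)
    · change tr A N (sx 0) (sx_lst 0) (tr A N (wmap (dl 0 1)) (wmap_lst _) (b • n)) =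
        rg A (lst ⟨0⟩ ≫ dg h.pd) b • tr A N (sx 0) (sx_lst 0) (tr A N (wmap (dl 0 1)) (wmap_lst _) n)
      refine (congrArg (tr A N (sx 0) (sx_lst 0)) (tr_smul A N (wmap (dl 0 1)) (wmap_lst _) b n)).trans ?_
      refine (tr_smul A N (sx 0) (sx_lst 0) _ _).trans ?_
      rw [← sx_wmap_one h, rg_comp_apply]
      rfl
    · change jn A N (lst ⟨0⟩) (ep h.pd N (b • n)) = rg A (lst ⟨0⟩ ≫ dg h.pd) b • jn A N (lst ⟨0⟩) (ep h.pd N n)
      refine (congrArg (jn A N (lst ⟨0⟩)) (ep_smul h.pd N b n)).trans ?_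
      refine (jn_smul A N (lst ⟨0⟩) _ _).trans ?_
      rw [rg_comp_apply]
    · change tr A N (sx 0) (sx_lst 0) (tr A N (wmap (dl 0 1)) (wmap_lst _) (jn A N (lst ⟨0⟩) m)) =
        jn A N (lst ⟨0⟩) (ep h.pd N (jn A N (lst ⟨0⟩) m))
      refine (congrArg (tr A N (sx 0) (sx_lst 0)) (tr_jn A N (wmap (dl 0 1)) (wmap_lst _) m)).trans ?_
      refine (tr_jn A N (sx 0) (sx_lst 0) m).trans ?_
      exact congrArg (jn A N (lst ⟨0⟩)) (ep_jn h.pd N m).symm
  exact congr($e v)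

end

/-- **the extra codegeneracy** -/
noncomputable def xco (N : ModuleCat.{u} (A.obj (op ⟨0⟩))) : XCo ((XX h).obj N) where
  s' := AddCommGrpCat.ofHom (ep h.pd N)
  s n := AddCommGrpCat.ofHom (tr A N (sx n) (sx_lst n))
  w' := by
    ext m
    exact ep_jn h.pd N m
  w0' := by
    ext v
    refine (congrArg (tr A N (sx 0) (sx_lst 0))
      (DFunLike.congr_fun (tr_congr N (wm_eq h (dl 0 1)) (h.pd.wm_b _) (wmap_lst _)) v)).trans ?_
    exact rel_one h N v
  w0 n := by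
    ext v
    refine (congrArg (tr A N (sx n) (sx_lst n))
      (DFunLike.congr_fun (tr_congr N (wm_eq h (dl n 0)) (h.pd.wm_b _) (wmap_lst _)) v)).trans ?_
    exact rel_zero N n v
  w n i := by
    ext v
    refine (congrArg (tr A N (sx (n + 1)) (sx_lst (n + 1)))
      (DFunLike.congr_fun (tr_congr N (wm_eq h (dl (n + 1) i.succ)) (h.pd.wm_b _) (wmap_lst _)) v)).trans ?_
    refine (rel_succ N n i v).trans ?_
    exact (DFunLike.congr_fun (tr_congr N (wm_eq h (dl n i)) (h.pd.wm_b _) (wmap_lst _))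
      (tr A N (sx n) (sx_lst n) v)).symm

theorem augExact (N : ModuleCat.{u} (A.obj (op ⟨0⟩))) : AugExact ((XX h).obj N) := (xco h N).augExact

/-- `X ⋙ rF ≅ ul ⋙ cob` for any right adjoint `ul` of `vst A` -/
noncomputable def eIso' {ul : ModuleCat.{u} (A.obj (op ⟨0⟩)) ⥤ Comod A} (adj : vst A ⊣ ul) :
    XX h ⋙ rF AddCommGrpCat.{u} ≅ ul ⋙ cob A :=
  eIso h ≪≫ Functor.isoWhiskerRight ((pstAdj h).rightAdjointUniq adj) (cob A)

variable (A) in
/-- the value of the cobar functor in degree `n` -/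
noncomputable def cobEval (n : ℕ) : cob A ⋙ (evaluation SimplexCategory AddCommGrpCat.{u}).obj (SimplexCategory.mk n) ≅
    (isCart A).ι ⋙ PresheafOfModules.evaluation (rf A) (op ⟨n⟩) ⋙ forget₂ _ _ :=
  NatIso.ofComponents (fun _ => Iso.refl _) (fun _ => rfl)

variable (A) in
/-- the value of the cobar functor in degree `0` is the chart -/
noncomputable def cobZero : cob A ⋙ (evaluation SimplexCategory AddCommGrpCat.{u}).obj (SimplexCategory.mk 0) ≅
    vst A ⋙ FG A :=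
  NatIso.ofComponents (fun _ => Iso.refl _) (fun _ => rfl)

end Aug

end Groth.Agent.ResProp.EF.K476.CobInst
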