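import Groth.Agent.ResProp.EF.K409.Roof
import Groth.Agent.ResProp.EF.K868.RoofHit
import Groth.Agent.ResProp.EF.K735.KerSm

/-!
# (c4): `StmtAct` (S16912, helper476): helper409's `exists_action` for a kernel datum
-/

set_option autoImplicit false
set_option backward.defeqAttrib.useBackward true
set_option backward.isDefEq.respectTransparency false
set_option backward.isDefEq.respectTransparency.types false
set_option linter.dupNamespace false
set_option linter.style.haveILetI false

open CategoryTheory CategoryTheory.Limits Opposite HomologicalComplex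

noncomputable section

namespace Groth.Agent.ResProp.EF.K476.StmtAct

open K784.BC K784.PM K741.RP EF56 Groth.Agent.ResProp.EF.K294 Grp Arch K494.Seam
open Groth.Agent.PerfB.RingKFlat Groth.Agent.PerfB

attribute [local instance] K911.TChart.add K911.TChart.add_obj K911.TChart.hmb

universe u

variable {k : Type u} [CommRing k] {A : NFᵒᵖ ⥤ CommRingCat.{u}} [GRF k A] [hA : Fact (GR A)]
  {x : PrimeSpectrum (A.obj (op ⟨0⟩))} {c : CoverDatum k A x}

/-- the smallness theory of a kernel datum -/
def smallF (KD : KernelDatum c) : K409.SmallTh (chartF A) KD.P (K110.tchartF A).TC (K110.tchartF A).data :=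
  K566.smallTh (P := KD.P) (π := (KD.π : KD.P →+* c.Y.D.obj (op ⟨0⟩))) hA.out c.Y.cart KD.π_surj

theorem actFor (KD : KernelDatum c) (r : K868.KRoof KD) : Nonempty (K868.ActFor KD r) := by
  have hge := isStrictlyGE_cmCx KD.K KD.d KD.dd (-KD.e) (fun n hn => KD.bdd n (Or.inl hn))
  have hle := isStrictlyLE_cmCx KD.K KD.d KD.dd 0 (fun n hn => KD.bdd n (Or.inr hn))
  have := r.qs
  have := r.qt
  have := r.geK
  have := r.leK
  obtain ⟨act, hnat, hsm⟩ := K409.exists_action (smallF KD) (K := r.D.K) (Kc := cmCx KD.K KD.d KD.dd) (W := r.W) r.s r.t (-KD.e) 0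
    r.D.flatK (-KD.e) 0 (K735.rhoK KD.K KD.d KD.dd) (K735.sm_kernel KD)
  exact ⟨{
    act := fun Y p j => act Y j p
    small := fun Y ⟨l, m, hl, hm⟩ j => hsm Y l m hl hm j
    nat := fun {Y Y'} _ _ f p => hnat Y Y' f 0 p }⟩

/-- **(c4)** -/
theorem stmtAct : K868.StmtAct.{u} := fun _ _ _ _ _ _ _ _ _ KD r => actFor KD r

end Groth.Agent.ResProp.EF.K476.StmtAct
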