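import Groth.Agent.ResProp.EF.K476.StmtRep
import Groth.Agent.ResProp.EF.K476.StmtAct

/-!
# Block (3): `Arch.StmtKernelHit` (S16912, helper476)
-/

set_option autoImplicit false

universe u

namespace Groth.Agent.ResProp.EF.K476

/-- **block (3) of `ArchTop`** -/
theorem stmtKernelHit : Arch.StmtKernelHit.{u} :=
  K868.stmtKernelHit StmtRep.stmtRep (K868.stmtRoofHit StmtAct.stmtAct)

end Groth.Agent.ResProp.EF.K476
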