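import Groth.Agent.ResProp.EF.K868.KHit
import Groth.Agent.ResProp.EF.K654.Main3
import Groth.Agent.ResProp.EF.K742.GO

/-!
# From `K654.RepOut` over the coalgebras of `- ⊗_k O(E)` to `K868.KRoof` (S16912, helper476)

`kroofOf`: `K` a complex of coalgebras over an exact comonad `G` on `Comod A` whose underlying complex is `cmCx KD`, `o` the
output of `K654.exists_repOut` for `K`: the roof `forget W`, `forget F` in `Comod A` is a `KRoof KD`.
-/

set_option autoImplicit false
set_option linter.dupNamespace false
set_option linter.unusedSectionVars false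

universe v₁ w₁ u

open CategoryTheory CategoryTheory.Limits Opposite HomologicalComplex

noncomputable section

namespace Groth.Agent.ResProp.EF.K476.Roof

open K784.BC K784.PM K741.RP EF56 Groth.Agent.ResProp.EF.K294 Grp Arch K494.Seam

variable {k : Type u} [CommRing k] {A : NFᵒᵖ ⥤ CommRingCat.{u}} [GRF k A] [Fact (GR A)]
  {x : PrimeSpectrum (A.obj (op ⟨0⟩))} {c : CoverDatum k A x} {KD : KernelDatum c}

section

variable {D : Type v₁} [Category.{w₁} D] [Abelian D] (XE : Chart (A.obj (op ⟨0⟩)) D) (u : D ⥤ Comod A) [u.Additive]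
  [u.PreservesHomology] (K : CochainComplex D ℤ)

theorem isStrictlyGE_map (L : CochainComplex D ℤ) (a : ℤ) (h : L.IsStrictlyGE a) :
    CochainComplex.IsStrictlyGE ((u.mapHomologicalComplex (ComplexShape.up ℤ)).obj L) a := by
  rw [CochainComplex.isStrictlyGE_iff]
  exact fun i hi => u.map_isZero (L.isZero_of_isStrictlyGE a i hi)

theorem isStrictlyLE_map (L : CochainComplex D ℤ) (a : ℤ) (h : L.IsStrictlyLE a) :
    CochainComplex.IsStrictlyLE ((u.mapHomologicalComplex (ComplexShape.up ℤ)).obj L) a := by
  rw [CochainComplex.isStrictlyLE_iff]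
  exact fun i hi => u.map_isZero (L.isZero_of_isStrictlyLE a i hi)

/-- **the roof in `Comod A`** -/
def kroofOf (eK : (u.mapHomologicalComplex (ComplexShape.up ℤ)).obj K ≅ cmCx KD.K KD.d KD.dd)
    (o : K654.RepOut (chartF A) XE u K (-KD.e) 0) : K868.KRoof KD where
  D := o.rd
  W := (u.mapHomologicalComplex (ComplexShape.up ℤ)).obj o.W
  s := (u.mapHomologicalComplex (ComplexShape.up ℤ)).map o.s ≫ eK.hom
  t := (u.mapHomologicalComplex (ComplexShape.up ℤ)).map o.t ≫ eqToHom o.rd_K.symm
  qs := by
    have := o.qs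
    infer_instance
  qt := by
    have := o.qt
    infer_instance
  geW := isStrictlyGE_map u o.W _ o.geW
  geK := by
    rw [o.rd_K]
    exact isStrictlyGE_map u o.F _ o.geF
  leK := by
    rw [o.rd_K]
    exact isStrictlyLE_map u o.F _ o.leF

end

end Groth.Agent.ResProp.EF.K476.Roof
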