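import Groth.Agent.ResProp.EF.K476.Roof
import Groth.Agent.ResProp.EF.K654.Main5
import Groth.Agent.ResProp.EF.K755.DirTw
import Groth.Agent.ResProp.EF.K679.ThetaInst
import Groth.Agent.ResProp.EF.K5.TwCmp
import Groth.Agent.ResProp.EF.K494.SeamH10
import Groth.Agent.ResProp.EF.K742.GOInst
import Groth.Agent.ResProp.EF.K309.TensFlat
import Groth.Agent.ResProp.EF.K309.HasTot

/-!
# G6c: `StmtRep` (S16912, helper476): the assembly of `K654.exists_repOut_coalg` for `Comod A` and a kernel datum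
-/

set_option autoImplicit false
set_option linter.dupNamespace false
set_option linter.style.haveILetI false

universe u

open CategoryTheory CategoryTheory.Limits Opposite HomologicalComplex ComplexShape TensorProduct

noncomputable section

namespace Groth.Agent.ResProp.EF.K476.StmtRep

open K784.BC K784.PM K741.RP EF56 Groth.Agent.ResProp.EF.K294 Grp Arch K494.Seam

variable {k : Type u} [CommRing k] {A : NFᵒᵖ ⥤ CommRingCat.{u}} [GRF k A] [Fact (GR A)]

set_option backward.isDefEq.respectTransparency false in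
/-- **G6c** -/
theorem stmtRep : K868.StmtRep.{u} := by
  intro p k _ hk A _ _ x c KD
  have := hk.dom
  have := hk.pid
  have hN := K671.noeth_chart k A p
  have hP := K671.noeth_P c p KD
  obtain ⟨r, hfin⟩ := K671.kernelFin p c KD
  have htot : ∀ K : HomologicalComplex₂ (Comod A) (up ℤ) (up ℤ), K.HasTotal (up ℤ) :=
    fun K => K309.hasTotal_of_hasCoproducts.{u} K
  have hge := isStrictlyGE_ceCx KD.K KD.d KD.dd (-KD.e) (fun n hn => KD.bdd n (Or.inl hn))
  have hle := isStrictlyLE_ceCx KD.K KD.d KD.dd 0 (fun n hn => KD.bdd n (Or.inr hn))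
  have hfree : ∀ j : K309.SubC (HopfRep.Comod.regular k KD.E.O), Module.Free k j.1 := fun j => K309.SubC.free j
  letI hmod : ∀ i : ℤ, Module KD.P ((K496.GO (A.obj (op ⟨0⟩)) (OR A KD.E)).forget.obj
      ((((K140.ueHom (ks k A) (fun _ => rfl) KD.E.O).lift.mapHomologicalComplex (up ℤ)).obj
        (ceCx KD.K KD.d KD.dd)).X i)) := fun i => (KD.K i).pm
  letI htow : ∀ i : ℤ, IsScalarTower (A.obj (op ⟨0⟩)) KD.P ((K496.GO (A.obj (op ⟨0⟩)) (OR A KD.E)).forget.obj
      ((((K140.ueHom (ks k A) (fun _ => rfl) KD.E.O).lift.mapHomologicalComplex (up ℤ)).obj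
        (ceCx KD.K KD.d KD.dd)).X i)) := fun i => (KD.K i).tw
  obtain ⟨o⟩ := K654.exists_repOut_coalg (chartF A) (K742.unitGO (ks k A) KD.E.O)
    (K309.SubC (HopfRep.Comod.regular k KD.E.O)) (K755.twSys (ks k A) KD.E.O (HopfRep.Comod.regular k KD.E.O)).W
    (K755.twSys (ks k A) KD.E.O (HopfRep.Comod.regular k KD.E.O)).twO
    (K755.twSys (ks k A) KD.E.O (HopfRep.Comod.regular k KD.E.O)).l
    (π' := KD.π) (cE := K671.cE c KD.ι) (r := r)
    (F₀ := fun j => (A.obj (op ⟨0⟩) : Type u) ⊗[k] j.1) (d := fun j => K679.TwBC.bcF (A.obj (op ⟨0⟩)) j.co)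
    (K742.presTor (ks k A) KD.E.O) (fun N h => K309.flat_GO (ks k A) KD.E.O N h)
    (fun j M h => have := hfree j; K309.flat_tensC (ks k A) j.1 M.A h) (K755.hlB _ _ _) (K5.sigma118 (ks k A))
    (K140.ueHom (ks k A) (fun _ => rfl) KD.E.O) (fun j => ⟨K679.Theta.theta118 (ks k A) (fun _ => rfl) j.co⟩)
    KD.π_surj hfin (ceCx KD.K KD.d KD.dd) (-KD.e) 0 (by simp) (torGE_ceCx KD.K KD.d KD.dd _ KD.tor)
    (plin_uCx KD.K KD.d KD.dd) (small_uCx c KD) (finite_uCx c KD)
  exact ⟨K476.Roof.kroofOf _ _ _ (forgetCe KD.K KD.d KD.dd) o⟩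

end Groth.Agent.ResProp.EF.K476.StmtRep
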