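import Groth.Agent.ResProp.EF.K476.Mum
import Groth.Agent.ResProp.EF.K294.TorBdInst
import Groth.Agent.Dcoh.FlatRes

/-!
# Universal quasi-isomorphisms on the chart

`univ`: a quasi-isomorphism `e : P ⟶ K` of complexes of `C`, flat on the chart, with `H^i(us P ⊗ M) = 0 = H^i(us K ⊗ M)` for
`i > b`, stays a quasi-isomorphism on the chart after `⊗ N` for all modules `N`.
`van_pt`, `flat_pt`: these conditions pass to filtered colimits.
-/

set_option autoImplicit false
universe w v u

open CategoryTheory CategoryTheory.Limits MonoidalCategory HomologicalComplex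

namespace Groth.Agent.ResProp.EF.K476.Univ

open Groth.Agent.ResProp.EF.K294

variable {A : Type u} [CommRing A]

/-- above the top degree `K ⊗ M` has no cohomology -/
lemma van_of_isStrictlyLE (K : CM A) (b : ℤ) [K.IsStrictlyLE b] (M : ModuleCat.{u} A) (i : ℤ) (hi : b < i) :
    IsZero ((Mum.tens K M).homology i) :=
  Mum.isZero_tens_homology K M i (K.isZero_of_isStrictlyLE b i hi)

section colim

variable {J : Type u} [SmallCategory J] [IsFiltered J]

lemma exactColim (J : Type u) [SmallCategory J] [IsFiltered J] (A : Type u) [CommRing A] :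
    HasExactColimitsOfShape J (ModuleCat.{u} A) := inferInstance

/-- filtered colimits of complexes `K_j` with `H^i(K_j ⊗ M) = 0` -/
lemma isZero_pt (Ψ : J ⥤ CM A) (c : Cocone Ψ) (hc : IsColimit c) (M : ModuleCat.{u} A) (i : ℤ)
    (h : ∀ j, IsZero ((Mum.tens (Ψ.obj j) M).homology i)) : IsZero ((Mum.tens c.pt M).homology i) := by
  have h1 : PreservesColimitsOfShape J ((tensorRight M).mapHomologicalComplex (ComplexShape.up ℤ)) := by
    apply HomologicalComplex.preservesColimitsOfShape_of_eval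
    intro n
    exact inferInstanceAs (PreservesColimitsOfShape J
      (eval (ModuleCat.{u} A) (ComplexShape.up ℤ) n ⋙ tensorRight M))
  rw [← HomologicalComplex.exactAt_iff_isZero_homology]
  exact Groth.Agent.Dcoh.HomColim.exactAt_of_isColimit i
    (isColimitOfPreserves ((tensorRight M).mapHomologicalComplex (ComplexShape.up ℤ)) hc)
    (fun j => (HomologicalComplex.exactAt_iff_isZero_homology _ _).2 (h j))

/-- filtered colimits of flat complexes -/
lemma flat_colim (Ψ : J ⥤ CM A) (c : Cocone Ψ) (hc : IsColimit c) (n : ℤ)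
    (h : ∀ j, Module.Flat A ((Ψ.obj j).X n)) : Module.Flat A (c.pt.X n) :=
  Groth.Agent.Dcoh.FlatRes.flat_pt_of_isColimit (Ψ ⋙ eval _ _ n) h
    (isColimitOfPreserves (eval (ModuleCat.{u} A) (ComplexShape.up ℤ) n) hc)

end colim

section chart

variable {C : Type v} [Category.{w} C] [Abelian C] (X : Chart A C)

lemma quasiIso_usC {K L : CochainComplex C ℤ} (e : K ⟶ L) [QuasiIso e] : QuasiIso (X.usC.map e) :=
  inferInstance

variable {X}

/-- **[UNIV]** -/
theorem univ {P K : CochainComplex C ℤ} (e : P ⟶ K) [QuasiIso e]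
    (hP : ∀ n, Module.Flat A (X.us.obj (P.X n))) (hK : ∀ n, Module.Flat A (X.us.obj (K.X n))) (b : ℤ)
    (vP : ∀ (M : ModuleCat.{u} A) (i : ℤ), b < i → IsZero ((Mum.tens (X.usC.obj P) M).homology i))
    (vK : ∀ (M : ModuleCat.{u} A) (i : ℤ), b < i → IsZero ((Mum.tens (X.usC.obj K) M).homology i))
    (N : ModuleCat.{u} A) : QuasiIso (Mum.tensMap (X.usC.map e) N) :=
  have := quasiIso_usC X e
  Mum.quasiIso_tensMap (X.usC.map e) hP hK b vP vK N

variable {J : Type u} [SmallCategory J] [IsFiltered J] [HasColimitsOfShape J C]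

lemma flat_pt (Ψ : J ⥤ CochainComplex C ℤ) (c : Cocone Ψ) (hc : IsColimit c) (n : ℤ)
    (h : ∀ j, Module.Flat A (X.us.obj ((Ψ.obj j).X n))) : Module.Flat A (X.us.obj (c.pt.X n)) := by
  have h1 := X.preservesColimitsOfShape_usC J
  exact flat_colim (Ψ ⋙ X.usC) (X.usC.mapCocone c) (isColimitOfPreserves X.usC hc) n h

lemma van_pt (Ψ : J ⥤ CochainComplex C ℤ) (c : Cocone Ψ) (hc : IsColimit c) (M : ModuleCat.{u} A) (i : ℤ)
    (h : ∀ j, IsZero ((Mum.tens (X.usC.obj (Ψ.obj j)) M).homology i)) :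
    IsZero ((Mum.tens (X.usC.obj c.pt) M).homology i) := by
  have h1 := X.preservesColimitsOfShape_usC J
  exact isZero_pt (Ψ ⋙ X.usC) (X.usC.mapCocone c) (isColimitOfPreserves X.usC hc) M i h

/-- **[UNIV], colimit form**: `e : colim Ψ_j ⟶ K` a quasi-isomorphism, the `Ψ_j` flat on the chart with
`H^i(us Ψ_j ⊗ M) = 0` for `i > b`, `K` flat on the chart and bounded above. -/
theorem univ_colim (Ψ : J ⥤ CochainComplex C ℤ) (c : Cocone Ψ) (hc : IsColimit c) (b : ℤ)
    (hΨ : ∀ j n, Module.Flat A (X.us.obj ((Ψ.obj j).X n)))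
    (vΨ : ∀ (j : J) (M : ModuleCat.{u} A) (i : ℤ), b < i →
      IsZero ((Mum.tens (X.usC.obj (Ψ.obj j)) M).homology i))
    {K : CochainComplex C ℤ} (e : c.pt ⟶ K) [QuasiIso e]
    (hK : ∀ n, Module.Flat A (X.us.obj (K.X n))) (b' : ℤ) [K.IsStrictlyLE b']
    (N : ModuleCat.{u} A) : QuasiIso (Mum.tensMap (X.usC.map e) N) := by
  refine univ e (fun n => flat_pt Ψ c hc n (fun j => hΨ j n)) hK (max b b')
    (fun M i hi => van_pt Ψ c hc M i (fun j => vΨ j M i (by omega))) (fun M i hi => ?_) N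
  exact Mum.isZero_tens_homology _ M i (X.us.map_isZero (K.isZero_of_isStrictlyLE b' i (by omega)))

end chart

end Groth.Agent.ResProp.EF.K476.Univ
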